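import Mathlib
import Cfsg.Agent.S3820
import Cfsg.Agent.Helper71.PronormalSelfNorm
import Cfsg.Agent.Helper46.MxKleinPSL

/-!
# helper95, PRON block C2 (for helper99, S2225): small facts proved directly
-/

set_option autoImplicit false

namespace Cfsg.Agent.Helper95.Pron

open Cfsg.Agent.S4269 (cj mem_cj cj_mul cj_of_mem cj_of_mem_normalizer)
open Cfsg.Agent.Helper71 Cfsg.Agent.Helper41 Cfsg.Agent.Helper46.Mx

section abstract
variable {G : Type*} [Group G]

/-- (A1) a subgroup of odd index contains a Sylow 2-subgroup. -/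
theorem exists_sylow_le_of_odd_index [Finite G] (H : Subgroup G) (hH : Odd H.index) :
    ∃ P : Sylow 2 G, (P : Subgroup G) ≤ H := by
  have : Fact (Nat.Prime 2) := ⟨Nat.prime_two⟩
  obtain ⟨P⟩ : Nonempty (Sylow 2 G) := inferInstance
  have hP : IsPGroup 2 (P : Subgroup G) := P.2
  have hnd : ¬ 2 ∣ Nat.card (G ⧸ H) := by
    rw [← Subgroup.index_eq_card]
    exact hH.not_two_dvd_nat
  obtain ⟨q, hq⟩ := hP.nonempty_fixed_point_of_prime_not_dvd_card (G ⧸ H) hnd
  induction q using QuotientGroup.induction_on with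
  | H g =>
    refine ⟨g⁻¹ • P, ?_⟩
    intro y hy
    rw [Sylow.coe_subgroup_smul, Subgroup.mem_pointwise_smul_iff_inv_smul_mem] at hy
    have hy' : g * y * g⁻¹ ∈ (P : Subgroup G) := by simpa [MulAut.smul_def] using hy
    have h1 := hq ⟨g * y * g⁻¹, hy'⟩
    have h2 : ((g * y * g⁻¹ * g : G) : G ⧸ H) = (g : G ⧸ H) := h1
    rw [QuotientGroup.eq] at h2
    have e : y = ((g * y * g⁻¹ * g)⁻¹ * g)⁻¹ := by group
    rw [e]
    exact H.inv_mem h2

/-- (A6) Sylow subgroups are pronormal (same proof as helper31's in block AL). -/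
theorem sylow_isPronormal [Finite G] {p : ℕ} [Fact p.Prime] (P : Sylow p G) :
    Cfsg.IsPronormal (P : Subgroup G) := by
  intro g
  have h1 : (P : Subgroup G) ≤ (P : Subgroup G) ⊔ cj g (P : Subgroup G) := le_sup_left
  have h2 : cj g (P : Subgroup G) ≤ (P : Subgroup G) ⊔ cj g (P : Subgroup G) := le_sup_right
  obtain ⟨y, hy, hye⟩ := exists_cj_eq_of_sylow_le h1 h2 P.2 (sylow_not_dvd_relIndex P h1)
    (card_cj g _)
  exact ⟨y, hy, hye.symm⟩

end abstract

section psl
variable {F : Type*} [Field F] [Fintype F]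

local notation "PSL2F" => Matrix.ProjectiveSpecialLinearGroup (Fin 2) F

/-- (P1) Klein four-subgroups of `PSL₂(q)`, `q` odd, are self-centralising. -/
theorem klein_cent (hodd : Odd (Fintype.card F)) (V : Subgroup PSL2F) (hV : IsKleinFour V)
    (g : PSL2F) (hg : ∀ v ∈ V, g * v = v * g) : g ∈ V := by
  obtain ⟨a, b, w, h, hVe, -⟩ := exists_kleinData_of_isKleinFour hodd V hV
  rw [← hVe] at hg ⊢
  rw [h.mem_V]
  exact h.cent g (hg a ((h.mem_V a).2 (Or.inr (Or.inl rfl))))
    (hg b ((h.mem_V b).2 (Or.inr (Or.inr (Or.inl rfl)))))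

end psl

end Cfsg.Agent.Helper95.Pron
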